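import Mathlib.GroupTheory.SpecificGroups.Alternating
import Mathlib.GroupTheory.Sylow

/-!
# Three-cycles in a permutation group: a maximal set carrying all of them
-/

set_option autoImplicit false
set_option linter.unusedSectionVars false

namespace Cfsg.Agent.AltThree

open Equiv

variable {α : Type*} [DecidableEq α] [Fintype α]

/-- The cycle `a → b → c`. -/
def tri (a b c : α) : Perm α := swap a b * swap b c

theorem tri_conj (k : Perm α) (a b c : α) : k * tri a b c * k⁻¹ = tri (k a) (k b) (k c) := by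
  rw [tri, tri, swap_apply_apply, swap_apply_apply]
  group

theorem tri_rot {a b c : α} (ab : a ≠ b) (bc : b ≠ c) (ac : a ≠ c) : tri a b c = tri b c a := by
  ext x
  simp only [tri, Perm.mul_apply, swap_apply_def]
  grind

theorem tri_inv (a b c : α) : (tri a b c)⁻¹ = tri c b a := by
  rw [tri, tri, _root_.mul_inv_rev, swap_inv, swap_inv, swap_comm b c, swap_comm a b]

theorem tri_apply_left {a b c : α} (ab : a ≠ b) (ac : a ≠ c) : tri a b c a = b := by
  rw [tri, Perm.mul_apply, swap_apply_of_ne_of_ne ab ac, swap_apply_left]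

theorem tri_apply_mid {a b c : α} (bc : b ≠ c) (ac : a ≠ c) : tri a b c b = c := by
  rw [tri, Perm.mul_apply, swap_apply_left, swap_apply_of_ne_of_ne ac.symm bc.symm]

theorem tri_apply_right {a b c : α} : tri a b c c = a := by
  rw [tri, Perm.mul_apply, swap_apply_right, swap_apply_right]

theorem tri_apply_other {a b c x : α} (xa : x ≠ a) (xb : x ≠ b) (xc : x ≠ c) : tri a b c x = x := by
  rw [tri, Perm.mul_apply, swap_apply_of_ne_of_ne xb xc, swap_apply_of_ne_of_ne xa xb]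

variable (H : Subgroup (Perm α))

/-- All three-cycles on `Δ` lie in `H`. -/
def Full (Δ : Finset α) : Prop :=
  ∀ a ∈ Δ, ∀ b ∈ Δ, ∀ c ∈ Δ, a ≠ b → b ≠ c → a ≠ c → tri a b c ∈ H

variable {H} {Δ : Finset α}

theorem full_insert (hΔ : Full H Δ) {x y w : α} (hx : x ∈ Δ) (hy : y ∈ Δ) (hw : w ∉ Δ)
    (hxy : x ≠ y) (h : tri x y w ∈ H) : Full H (insert w Δ) := by
  have hne : ∀ {a}, a ∈ Δ → a ≠ w := fun ha e => hw (e ▸ ha)
  have symm : ∀ a ∈ Δ, ∀ b ∈ Δ, a ≠ b → tri a b w ∈ H → tri b a w ∈ H := fun a ha b hb hab h => by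
    rw [tri_rot hab.symm (hne ha) (hne hb), tri_rot (hne ha) (hne hb).symm hab, ← tri_inv]
    exact inv_mem h
  have step : ∀ a ∈ Δ, ∀ b ∈ Δ, ∀ c ∈ Δ, a ≠ b → a ≠ c → tri a b w ∈ H → tri a c w ∈ H := by
    intro a ha b hb c hc hab hac h
    rcases eq_or_ne c b with rfl | hcb
    · exact h
    have hk := hΔ a ha b hb c hc hab hcb.symm hac
    have h2 := H.mul_mem (H.mul_mem (H.inv_mem hk) h) hk
    rw [show (tri a b c)⁻¹ * tri a b w * tri a b c =
        (tri a b c)⁻¹ * tri a b w * ((tri a b c)⁻¹)⁻¹ by rw [inv_inv], tri_conj] at h2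
    have e1 : (tri a b c)⁻¹ a = c := by
      rw [Perm.inv_eq_iff_eq, tri_apply_right]
    have e2 : (tri a b c)⁻¹ b = a := by
      rw [Perm.inv_eq_iff_eq, tri_apply_left hab hac]
    have e3 : (tri a b c)⁻¹ w = w := by
      rw [Perm.inv_eq_iff_eq, tri_apply_other (hne ha).symm (hne hb).symm (hne hc).symm]
    rw [e1, e2, e3] at h2
    exact symm c hc a ha hac.symm h2
  have any : ∀ a ∈ Δ, ∀ b ∈ Δ, a ≠ b → tri a b w ∈ H := by
    intro a ha b hb hab
    rcases eq_or_ne a x with rfl | hax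
    · exact step a ha y hy b hb hxy hab h
    · exact step a ha x hx b hb hax hab
        (symm x hx a ha hax.symm (step x hx y hy a ha hxy hax.symm h))
  intro a ha b hb c hc hab hbc hac
  rw [Finset.mem_insert] at ha hb hc
  rcases ha with rfl | ha <;> rcases hb with rfl | hb <;> rcases hc with rfl | hc <;>
    try contradiction
  · rw [tri_rot hab hbc hac]
    exact any b hb c hc hbc
  · rw [tri_rot hab hbc hac, tri_rot hbc hac.symm hab.symm]
    exact any c hc a ha hac.symm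
  · exact any a ha b hb hab
  · exact hΔ a ha b hb c hc hab hbc hac

theorem full_three {a b c : α} (ab : a ≠ b) (bc : b ≠ c) (ac : a ≠ c) (h : tri a b c ∈ H) :
    Full H {a, b, c} := by
  have h1 : tri b c a ∈ H := tri_rot ab bc ac ▸ h
  have h2 : tri c a b ∈ H := tri_rot bc ac.symm ab.symm ▸ h1
  have i0 : tri c b a ∈ H := tri_inv a b c ▸ inv_mem h
  have i1 : tri a c b ∈ H := tri_inv b c a ▸ inv_mem h1
  have i2 : tri b a c ∈ H := tri_inv c a b ▸ inv_mem h2
  intro x hx y hy w hw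
  simp only [Finset.mem_insert, Finset.mem_singleton] at hx hy hw
  rcases hx with rfl | rfl | rfl <;> rcases hy with rfl | rfl | rfl <;>
    rcases hw with rfl | rfl | rfl <;> intros <;> first | contradiction | assumption

/-- A maximal full set absorbs every three-cycle of `H` meeting it. -/
theorem exists_max (h : ∃ a b c : α, a ≠ b ∧ b ≠ c ∧ a ≠ c ∧ tri a b c ∈ H) :
    ∃ Δ : Finset α, 3 ≤ Δ.card ∧ Full H Δ ∧ ∀ a b c : α, a ∈ Δ → a ≠ b → b ≠ c → a ≠ c →
      tri a b c ∈ H → b ∈ Δ ∧ c ∈ Δ := by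
  classical
  obtain ⟨a, b, c, ab, bc, ac, hm⟩ := h
  obtain ⟨Δ, hΔ, hmax⟩ := (Finset.univ.filter fun Δ : Finset α => 3 ≤ Δ.card ∧ Full H Δ).exists_max_image
    Finset.card ⟨{a, b, c}, by
      rw [Finset.mem_filter]
      refine ⟨Finset.mem_univ _, ?_, full_three ab bc ac hm⟩
      rw [Finset.card_insert_of_notMem (by simp [ab, ac]), Finset.card_pair bc]⟩
  rw [Finset.mem_filter] at hΔ
  obtain ⟨-, hc3, hfull⟩ := hΔ
  have noext : ∀ x ∈ Δ, ∀ y ∈ Δ, ∀ w, x ≠ y → tri x y w ∈ H → w ∈ Δ := by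
    intro x hx y hy w hxy hm
    by_contra hw
    have := hmax (insert w Δ) (by
      rw [Finset.mem_filter]
      exact ⟨Finset.mem_univ _, hc3.trans (Finset.card_le_card (Finset.subset_insert _ _)),
        full_insert hfull hx hy hw hxy hm⟩)
    rw [Finset.card_insert_of_notMem hw] at this
    omega
  refine ⟨Δ, hc3, hfull, fun x y w hx xy yw xw hm => ?_⟩
  by_cases hy : y ∈ Δ
  · exact ⟨hy, noext x hx y hy w xy hm⟩
  by_cases hw : w ∈ Δ
  · refine absurd (noext w hw x hx y xw.symm ?_) hy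
    rw [tri_rot xy yw xw, tri_rot yw xw.symm xy.symm] at hm
    exact hm
  exfalso
  obtain ⟨p, hp, hpx⟩ : ∃ p ∈ Δ, p ≠ x := Finset.exists_mem_ne (by omega) x
  obtain ⟨q, hq⟩ : ((Δ.erase x).erase p).Nonempty := by
    rw [← Finset.card_pos, Finset.card_erase_of_mem (Finset.mem_erase.2 ⟨hpx, hp⟩),
      Finset.card_erase_of_mem hx]
    omega
  simp only [Finset.mem_erase] at hq
  obtain ⟨hqp, hqx, hq⟩ := hq
  have hpy : p ≠ y := fun e => hy (e ▸ hp)
  have hpw : p ≠ w := fun e => hw (e ▸ hp)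
  have hk := hfull x hx p hp q hq hpx.symm hqp.symm hqx.symm
  have h1 : tri p y w ∈ H := by
    have := H.mul_mem (H.mul_mem hk hm) (H.inv_mem hk)
    rwa [tri_conj, tri_apply_left hpx.symm hqx.symm,
      tri_apply_other xy.symm (fun e => hy (e ▸ hp)) (fun e => hy (e ▸ hq)),
      tri_apply_other xw.symm (fun e => hw (e ▸ hp)) (fun e => hw (e ▸ hq))] at this
  have h2 : tri x p y ∈ H := by
    have := H.mul_mem h1 (H.inv_mem hm)
    have e : tri p y w * (tri x y w)⁻¹ = tri x p y := by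
      rw [tri_inv]
      ext t
      simp only [tri, Perm.mul_apply, swap_apply_def]
      grind
    rwa [e] at this
  exact hy (noext x hx p hp y hpx.symm h2)

/-- A maximal full set is a block of `H`. -/
theorem block (hc : 3 ≤ Δ.card) (hfull : Full H Δ)
    (hmax : ∀ a b c : α, a ∈ Δ → a ≠ b → b ≠ c → a ≠ c → tri a b c ∈ H → b ∈ Δ ∧ c ∈ Δ)
    {h : Perm α} (hh : h ∈ H) {x : α} (hx : x ∈ Δ) (hhx : h x ∈ Δ) : ∀ y ∈ Δ, h y ∈ Δ := by
  intro y hy
  rcases eq_or_ne y x with rfl | hyx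
  · exact hhx
  obtain ⟨w, hw⟩ : ((Δ.erase x).erase y).Nonempty := by
    rw [← Finset.card_pos, Finset.card_erase_of_mem (Finset.mem_erase.2 ⟨hyx, hy⟩),
      Finset.card_erase_of_mem hx]
    omega
  simp only [Finset.mem_erase] at hw
  obtain ⟨hwy, hwx, hw⟩ := hw
  have := H.mul_mem (H.mul_mem hh (hfull x hx y hy w hw hyx.symm hwy.symm hwx.symm)) (H.inv_mem hh)
  rw [tri_conj] at this
  exact (hmax _ _ _ hhx (h.injective.ne hyx.symm) (h.injective.ne hwy.symm) (h.injective.ne hwx.symm) this).1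

end Cfsg.Agent.AltThree
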