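import Cfsg.Agent.Lib.AltThree.Full
import Cfsg.Agent.Lib.Components.FStar
import Cfsg.Agent.Lib.FiniteGroup.PermSmall
import Mathlib.GroupTheory.SpecificGroups.Alternating

/-!
# Overgroups of a Sylow 3-subgroup of a symmetric group with quasisimple generalised Fitting subgroup
-/

set_option autoImplicit false
set_option linter.unusedSectionVars false
set_option linter.style.haveILetI false

namespace Cfsg.Agent.AltThree

open Equiv
open scoped commutatorElement

variable {n : ℕ}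

/-- The facts used about the generalised Fitting subgroup. -/
structure Core (H L : Subgroup (Perm (Fin n))) : Prop where
  le : L ≤ H
  normal : ∀ h ∈ H, ∀ l ∈ L, h * l * h⁻¹ ∈ L
  perfect : ⁅L, L⁆ = L
  ne_bot : L ≠ ⊥
  cent : ∀ h ∈ H, (∀ l ∈ L, h * l = l * h) → h ∈ L
  qs : ∀ N : Subgroup (Perm (Fin n)), N ≤ L → (∀ l ∈ L, ∀ x ∈ N, l * x * l⁻¹ ∈ N) →
    N = L ∨ ∀ x ∈ N, ∀ l ∈ L, x * l = l * x
  abel : ∀ N : Subgroup (Perm (Fin n)), N ≤ H → (∀ h ∈ H, ∀ x ∈ N, h * x * h⁻¹ ∈ N) →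
    (∀ x ∈ N, ∀ y ∈ N, x * y = y * x) → N ≤ L

theorem core_of_fstar (H : Subgroup (Perm (Fin n)))
    (hF : Cfsg.IsQuasisimple ↥(Cfsg.generalizedFittingSubgroup ↥H)) :
    Core H ((Cfsg.generalizedFittingSubgroup ↥H).map H.subtype) := by
  set L₀ := Cfsg.generalizedFittingSubgroup ↥H
  haveI : L₀.Normal := Components.generalizedFitting_normal
  refine ⟨Subgroup.map_subtype_le _, ?_, ?_, ?_, ?_, ?_, ?_⟩
  · rintro h hh _ ⟨l, hl, rfl⟩
    exact ⟨⟨h, hh⟩ * l * ⟨h, hh⟩⁻¹, (inferInstance : L₀.Normal).conj_mem l hl _, rfl⟩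
  · rw [← Subgroup.map_commutator, Components.quasisimple_commutator_eq hF]
  · rw [ne_eq, Subgroup.map_eq_bot_iff_of_injective _ H.subtype_injective]
    exact (Subgroup.nontrivial_iff_ne_bot L₀).1 (Components.quasisimple_nontrivial hF)
  · intro h hh hc
    refine ⟨⟨h, hh⟩, Components.centralizer_generalizedFitting_le
      (Subgroup.mem_centralizer_iff.2 fun l hl => ?_), rfl⟩
    exact Subtype.ext (hc l ⟨l, hl, rfl⟩).symm
  · intro N hN hNn
    let j : ↥L₀ →* Perm (Fin n) := H.subtype.comp L₀.subtype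
    haveI : (N.comap j).Normal := ⟨fun x hx g => by
      show j (g * x * g⁻¹) ∈ N
      rw [map_mul, map_mul, map_inv]
      exact hNn _ ⟨_, g.2, rfl⟩ _ hx⟩
    rcases Components.quasisimple_normal hF (N.comap j) with h | h
    · refine Or.inl (le_antisymm hN ?_)
      rintro _ ⟨l, hl, rfl⟩
      exact (h ▸ Subgroup.mem_top (⟨l, hl⟩ : L₀) : (⟨l, hl⟩ : L₀) ∈ N.comap j)
    · refine Or.inr fun x hx l hl => ?_
      obtain ⟨x', hx', rfl⟩ := hN hx
      obtain ⟨l', hl', rfl⟩ := hl
      have := Subgroup.mem_center_iff.1 (h (show (⟨x', hx'⟩ : L₀) ∈ N.comap j from hx)) ⟨l', hl'⟩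
      exact (congrArg (fun t : L₀ => j t) this).symm
  · intro N hN hNn hcomm
    haveI : (N.subgroupOf H).Normal := ⟨fun x hx g => hNn g g.2 x hx⟩
    haveI : IsMulCommutative ↥(N.subgroupOf H) :=
      ⟨⟨fun x y => Subtype.ext (Subtype.ext (hcomm _ x.2 _ y.2))⟩⟩
    letI : CommGroup ↥(N.subgroupOf H) :=
      { (inferInstance : Group ↥(N.subgroupOf H)) with
        mul_comm := fun x y => Subtype.ext (Subtype.ext (hcomm _ x.2 _ y.2)) }
    have h := (Components.le_fittingSubgroup (N := N.subgroupOf H) inferInstance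
      inferInstance).trans Components.fitting_le_generalizedFitting
    intro x hx
    exact ⟨⟨x, hN hx⟩, h hx, rfl⟩

theorem conj_fix {β : Type*} (k d : Perm β) {x : β} (h : d (k⁻¹ x) = k⁻¹ x) : (k * d * k⁻¹) x = x := by
  rw [Perm.mul_apply, Perm.mul_apply, h, ← Perm.mul_apply, mul_inv_cancel, Perm.one_apply]

theorem apply_inv {β : Type*} (k : Perm β) (x : β) : k (k⁻¹ x) = x := by
  rw [← Perm.mul_apply, mul_inv_cancel, Perm.one_apply]

theorem inv_apply {β : Type*} (k : Perm β) (x : β) : k⁻¹ (k x) = x := by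
  rw [← Perm.mul_apply, inv_mul_cancel, Perm.one_apply]

section set

variable {α : Type*} [DecidableEq α] [Fintype α] (Δ : Finset α)

/-- The alternating group on a subset. -/
def altOn : Subgroup (Perm α) :=
  (alternatingGroup {x // x ∈ Δ}).map (Perm.ofSubtype (p := fun x => x ∈ Δ))

variable {Δ}

theorem altOn_fix {a : Perm α} (ha : a ∈ altOn Δ) {x : α} (hx : x ∉ Δ) : a x = x := by
  obtain ⟨s, -, rfl⟩ := ha
  exact Perm.ofSubtype_apply_of_not_mem s hx

theorem tri_mem_altOn {a b c : α} (ha : a ∈ Δ) (hb : b ∈ Δ) (hc : c ∈ Δ) (ab : a ≠ b) (bc : b ≠ c) :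
    tri a b c ∈ altOn Δ := by
  refine ⟨tri ⟨a, ha⟩ ⟨b, hb⟩ ⟨c, hc⟩, ?_, ?_⟩
  · simp [tri, Subtype.ext_iff, ab, bc]
  · rw [tri, map_mul, Perm.ofSubtype_swap_eq, Perm.ofSubtype_swap_eq]
    rfl

theorem altOn_le {H : Subgroup (Perm α)} (hfull : Full H Δ) : altOn Δ ≤ H := by
  rw [altOn, Subgroup.map_le_iff_le_comap, ← Perm.closure_three_cycles_eq_alternating,
    Subgroup.closure_le]
  intro s hs
  have hs' : Perm.IsThreeCycle s := hs
  obtain ⟨x, hx⟩ := Finset.card_pos.1 (by rw [hs'.card_support]; norm_num : 0 < s.support.card)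
  have h := hs'.eq_swap_mul_swap_iff_mem_support.2 hx
  have hn := hs'.nodup_iff_mem_support.2 hx
  simp at hn
  show Perm.ofSubtype s ∈ H
  rw [h, map_mul, Perm.ofSubtype_swap_eq, Perm.ofSubtype_swap_eq]
  exact hfull _ x.2 _ (s x).2 _ (s (s x)).2 (fun e => hn.1.1 (Subtype.ext e))
    (fun e => hn.2 (s.injective (Subtype.ext e))) (fun e => hn.1.2 (Subtype.ext e))

theorem altOn_conj {g : Perm α} (hg : ∀ x ∈ Δ, g x ∈ Δ) {a : Perm α} (ha : a ∈ altOn Δ) :
    g * a * g⁻¹ ∈ altOn Δ := by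
  obtain ⟨s, hs, rfl⟩ := ha
  have hg' : ∀ x, g x ∈ Δ ↔ x ∈ Δ := by
    intro x
    refine ⟨fun hx => ?_, hg x⟩
    obtain ⟨y, hy, e⟩ := Finset.surj_on_of_inj_on_of_card_le (s := Δ) (t := Δ) (fun y _ => g y)
      (fun y hy => hg y hy) (fun _ _ _ _ e => g.injective e) le_rfl (g x) hx
    exact g.injective e.symm ▸ hy
  have e1 : g * Perm.ofSubtype s * g⁻¹ = Perm.ofSubtype (g.subtypePerm hg' * s * (g.subtypePerm hg')⁻¹) := by
    ext t
    obtain ⟨u, rfl⟩ := g.surjective t
    simp only [Perm.mul_apply, inv_apply]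
    by_cases hu : u ∈ Δ
    · rw [Perm.ofSubtype_apply_of_mem s hu, Perm.ofSubtype_apply_of_mem _ (hg u hu)]
      rw [show (⟨g u, hg u hu⟩ : {x // x ∈ Δ}) = g.subtypePerm hg' ⟨u, hu⟩ from rfl,
        Perm.mul_apply, Perm.mul_apply, inv_apply]
      rfl
    · rw [Perm.ofSubtype_apply_of_not_mem s hu,
        Perm.ofSubtype_apply_of_not_mem _ (fun h => hu ((hg' u).1 h))]
  rw [e1]
  exact ⟨_, (inferInstance : (alternatingGroup {x // x ∈ Δ}).Normal).conj_mem _ hs _, rfl⟩

theorem commute_of_disjoint {s t : Perm α} (hs : ∀ x ∉ Δ, s x = x) (ht : ∀ x ∈ Δ, t x = x) :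
    s * t = t * s :=
  Perm.Disjoint.commute fun x => by
    by_cases hx : x ∈ Δ
    · exact Or.inr (ht x hx)
    · exact Or.inl (hs x hx)

end set

theorem perm_three_comm : ∀ s t : Perm (Fin 3), Perm.sign s = 1 → Perm.sign t = 1 → s * t = t * s := by
  decide +kernel

variable {H L : Subgroup (Perm (Fin n))} {Δ : Finset (Fin n)}

/-- Restricting a perfect group to an invariant set of at most four points gives the trivial group. -/
theorem fixes_small (hC : Core H L) (hinv : ∀ l ∈ L, ∀ x ∈ Δ, l x ∈ Δ) (hc : Δ.card ≤ 4) :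
    ∀ l ∈ L, ∀ x ∈ Δ, l x = x := by
  classical
  have hinv' : ∀ l ∈ L, ∀ x, l x ∈ Δ ↔ x ∈ Δ := fun l hl x => ⟨fun h => by
    simpa using hinv l⁻¹ (L.inv_mem hl) _ h, hinv l hl x⟩
  let r : L →* Perm {x // x ∈ Δ} :=
    { toFun := fun l => (l : Perm (Fin n)).subtypePerm (hinv' l l.2)
      map_one' := by ext; rfl
      map_mul' := fun _ _ => by ext; rfl }
  haveI hsol : Group.IsSolvable (Perm {x // x ∈ Δ}) := by
    have hle : Nat.card {x // x ∈ Δ} ≤ 4 := by rw [Nat.card_eq_fintype_card, Fintype.card_coe]; exact hc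
    exact PermSmall.isSolvable_perm_of_card_le_four hle
  haveI : Group.IsPerfect L := Subgroup.isPerfect_iff.2 hC.perfect
  have hr : ∀ l, r l = 1 := by
    haveI := hsol
    intro l
    have h1 : (⊤ : Subgroup L).map r = ⊥ := by
      by_contra hne
      have hp : ⁅(⊤ : Subgroup L).map r, (⊤ : Subgroup L).map r⁆ = (⊤ : Subgroup L).map r := by
        rw [← Subgroup.map_commutator, ← commutator_def, Group.IsPerfect.commutator_eq_top]
      have hlt := Group.IsSolvable.commutator_lt_of_ne_bot hne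
      rw [hp] at hlt
      exact lt_irrefl _ hlt
    exact Subgroup.mem_bot.1 (h1 ▸ ⟨l, Subgroup.mem_top l, rfl⟩)
  intro l hl x hx
  exact congrArg Subtype.val (congrArg (fun p : Perm {x // x ∈ Δ} => p ⟨x, hx⟩) (hr ⟨l, hl⟩))

variable (hC : Core H L) (hc3 : 3 ≤ Δ.card) (hfull : Full H Δ)
    (hmax : ∀ a b c : Fin n, a ∈ Δ → a ≠ b → b ≠ c → a ≠ c → tri a b c ∈ H → b ∈ Δ ∧ c ∈ Δ)

include hC hc3 hfull hmax

/-- The perfect normal subgroup fixes the block. -/
theorem L_inv : ∀ l ∈ L, ∀ x ∈ Δ, l x ∈ Δ := by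
  classical
  by_contra hno
  push Not at hno
  obtain ⟨l, hl, x₀, hx₀, hlx₀⟩ := hno
  have hB := fun {h} (hh : h ∈ H) {x} (hx : x ∈ Δ) (hhx : h x ∈ Δ) => block hc3 hfull hmax hh hx hhx
  have hAH := altOn_le hfull
  have hout : ∀ x ∈ Δ, l x ∉ Δ := fun x hx h => hlx₀ (hB (hC.le hl) hx h x₀ hx₀)
  have hcommA : ∀ a ∈ altOn Δ, ∀ b ∈ altOn Δ, b * (l * a * l⁻¹) = (l * a * l⁻¹) * b := by
    intro a ha b hb
    refine commute_of_disjoint (Δ := Δ) (fun x hx => altOn_fix hb hx) fun x hx => ?_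
    have : l⁻¹ x ∉ Δ := fun h => by
      have := hout _ h
      rw [apply_inv] at this
      exact this hx
    exact conj_fix l a (altOn_fix ha this)
  -- commutators of the alternating group lie in `L`
  have hcomL : ∀ a ∈ altOn Δ, ∀ b ∈ altOn Δ, ⁅b, a⁆ ∈ L := by
    intro a ha b hb
    have he : a * (l * a⁻¹ * l⁻¹) ∈ L := by
      rw [show a * (l * a⁻¹ * l⁻¹) = (a * l * a⁻¹) * l⁻¹ by group]
      exact L.mul_mem (hC.normal a (hAH ha) l hl) (L.inv_mem hl)
    have h2 : b * (a * (l * a⁻¹ * l⁻¹)) * b⁻¹ * (a * (l * a⁻¹ * l⁻¹))⁻¹ = ⁅b, a⁆ := by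
      have e := hcommA a⁻¹ (inv_mem ha) b hb
      calc b * (a * (l * a⁻¹ * l⁻¹)) * b⁻¹ * (a * (l * a⁻¹ * l⁻¹))⁻¹
          = b * a * ((l * a⁻¹ * l⁻¹) * b⁻¹) * (l * a⁻¹ * l⁻¹)⁻¹ * a⁻¹ := by group
        _ = b * a * (b⁻¹ * (l * a⁻¹ * l⁻¹)) * (l * a⁻¹ * l⁻¹)⁻¹ * a⁻¹ := by
            rw [hcommA a⁻¹ (inv_mem ha) b⁻¹ (inv_mem hb)]
        _ = ⁅b, a⁆ := by rw [commutatorElement_def]; group
    rw [← h2]
    exact L.mul_mem (hC.normal b (hAH hb) _ he) (L.inv_mem he)
  by_cases hab : ∀ a ∈ altOn Δ, ∀ b ∈ altOn Δ, a * b = b * a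
  · -- the abelian case
    obtain ⟨a, ha⟩ := Finset.card_pos.1 (show 0 < Δ.card by omega)
    let K := Subgroup.closure {g : Perm (Fin n) | ∃ h ∈ H, ∃ c ∈ altOn Δ, g = h * c * h⁻¹}
    have hKH : K ≤ H := by
      rw [Subgroup.closure_le]
      rintro _ ⟨h, hh, c, hc, rfl⟩
      exact H.mul_mem (H.mul_mem hh (hAH hc)) (H.inv_mem hh)
    have hKn : ∀ h ∈ H, ∀ x ∈ K, h * x * h⁻¹ ∈ K := by
      intro h hh x hx
      induction hx using Subgroup.closure_induction with
      | mem x hx =>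
        obtain ⟨k, hk, c, hc, rfl⟩ := hx
        exact Subgroup.subset_closure ⟨h * k, H.mul_mem hh hk, c, hc, by group⟩
      | one => simp
      | mul x y _ _ hx hy => simpa [mul_assoc] using K.mul_mem hx hy
      | inv x _ hx => simpa [mul_assoc] using K.inv_mem hx
    have hgen : ∀ c ∈ altOn Δ, ∀ h ∈ H, ∀ d ∈ altOn Δ, c * (h * d * h⁻¹) = (h * d * h⁻¹) * c := by
      intro c hc h hh d hd
      by_cases hi : ∃ x ∈ Δ, h x ∈ Δ
      · obtain ⟨x, hx, hhx⟩ := hi
        exact hab c hc _ (altOn_conj (hB hh hx hhx) hd)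
      · push Not at hi
        refine commute_of_disjoint (Δ := Δ) (fun x hx => altOn_fix hc hx) fun x hx => ?_
        have : h⁻¹ x ∉ Δ := fun h' => by
          have := hi _ h'
          rw [apply_inv] at this
          exact this hx
        exact conj_fix h d (altOn_fix hd this)
    have hKc : ∀ x ∈ K, ∀ y ∈ K, x * y = y * x := by
      refine fun x hx y hy => Subgroup.closure_induction₂ (p := fun x y _ _ => x * y = y * x)
        ?_ (fun _ _ => by simp) (fun _ _ => by simp) ?_ ?_ ?_ ?_ hx hy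
      · rintro _ _ ⟨h, hh, c, hc, rfl⟩ ⟨k, hk, d, hd, rfl⟩
        have e := hgen c hc (h⁻¹ * k) (H.mul_mem (H.inv_mem hh) hk) d hd
        calc h * c * h⁻¹ * (k * d * k⁻¹) = h * (c * (h⁻¹ * k * d * (h⁻¹ * k)⁻¹)) * h⁻¹ := by group
          _ = k * d * k⁻¹ * (h * c * h⁻¹) := by rw [e]; group
      · exact fun x y w _ _ _ h1 h2 => (Commute.mul_left h1 h2).eq
      · exact fun y w x _ _ _ h1 h2 => (Commute.mul_right h1 h2).eq
      · exact fun x y _ _ h1 => (Commute.inv_left h1).eq
      · exact fun x y _ _ h1 => (Commute.inv_right h1).eq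
    have hKL := hC.abel K hKH hKn hKc
    have hcen : ∀ x ∈ K, ∀ y ∈ L, x * y = y * x := by
      rcases hC.qs K hKL (fun y hy x hx => hKn y (hC.le hy) x hx) with h | h
      · exfalso
        refine hC.ne_bot (eq_bot_iff.2 ?_)
        conv_lhs => rw [← hC.perfect]
        rw [Subgroup.commutator_le]
        intro x hx y hy
        rw [Subgroup.mem_bot, commutatorElement_eq_one_iff_mul_comm]
        exact hKc x (h.symm ▸ hx) y (h.symm ▸ hy)
      · exact h
    obtain ⟨b, hb, hba⟩ := Finset.exists_mem_ne (show 1 < Δ.card by omega) a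
    obtain ⟨c, hcm⟩ : ((Δ.erase a).erase b).Nonempty := by
      rw [← Finset.card_pos, Finset.card_erase_of_mem (Finset.mem_erase.2 ⟨hba, hb⟩),
        Finset.card_erase_of_mem ha]
      omega
    simp only [Finset.mem_erase] at hcm
    obtain ⟨hcb, hca, hc⟩ := hcm
    have hm := hcen _ (Subgroup.subset_closure ⟨1, H.one_mem, tri a b c,
      tri_mem_altOn ha hb hc hba.symm hcb.symm, (show tri a b c = 1 * tri a b c * 1⁻¹ by group)⟩) l hl
    have h1 := congrArg (fun p : Perm (Fin n) => p a) hm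
    simp only [Perm.mul_apply, tri_apply_left hba.symm hca.symm] at h1
    rw [altOn_fix (tri_mem_altOn ha hb hc hba.symm hcb.symm) (hout a ha)] at h1
    exact hba (l.injective h1).symm
  · push Not at hab
    obtain ⟨a, ha, b, hb, hne⟩ := hab
    set e := ⁅b, a⁆ with he
    have heA : e ∈ altOn Δ := by
      rw [he, commutatorElement_def]
      exact mul_mem (mul_mem (mul_mem hb ha) (inv_mem hb)) (inv_mem ha)
    have he1 : e ≠ 1 := fun h => hne (commutatorElement_eq_one_iff_mul_comm.1 (he ▸ h)).symm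
    let K := Subgroup.closure {g : Perm (Fin n) | ∃ k ∈ L, g = k * e * k⁻¹}
    have hKL : K ≤ L := by
      rw [Subgroup.closure_le]
      rintro _ ⟨k, hk, rfl⟩
      exact L.mul_mem (L.mul_mem hk (hcomL a ha b hb)) (L.inv_mem hk)
    have hKn : ∀ k ∈ L, ∀ x ∈ K, k * x * k⁻¹ ∈ K := by
      intro k hk x hx
      induction hx using Subgroup.closure_induction with
      | mem x hx =>
        obtain ⟨k', hk', rfl⟩ := hx
        exact Subgroup.subset_closure ⟨k * k', L.mul_mem hk hk', by group⟩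
      | one => simp
      | mul x y _ _ hx hy => simpa [mul_assoc] using K.mul_mem hx hy
      | inv x _ hx => simpa [mul_assoc] using K.inv_mem hx
    rcases hC.qs K hKL hKn with h | h
    · -- every generator fixes every translate of the block
      have hfix : ∀ g ∈ K, ∀ x ∈ Δ, g x ∈ Δ := by
        intro g hg
        have : ∀ x ∈ Δ, g x ∈ Δ ∧ g⁻¹ x ∈ Δ := by
          induction hg using Subgroup.closure_induction with
          | mem g hg =>
            obtain ⟨k, hk, rfl⟩ := hg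
            have hkey : ∀ d ∈ altOn Δ, ∀ x ∈ Δ, (k * d * k⁻¹) x ∈ Δ := by
              intro d hd x hx
              by_cases h1 : k⁻¹ x ∈ Δ
              · simp only [Perm.mul_apply]
                have hd' : d (k⁻¹ x) ∈ Δ := by
                  by_contra h2
                  exact h2 (by rw [d.injective (altOn_fix hd h2)]; exact h1)
                exact hB (hC.le hk) h1 (by rw [apply_inv]; exact hx) _ hd'
              · rw [conj_fix k d (altOn_fix hd h1)]; exact hx
            intro x hx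
            exact ⟨hkey e heA x hx, by simpa [mul_assoc] using hkey e⁻¹ (inv_mem heA) x hx⟩
          | one => simp
          | mul g g' _ _ hg hg' =>
            exact fun x hx => ⟨(hg _ (hg' x hx).1).1, (hg' _ (hg x hx).2).2⟩
          | inv g _ hg => exact fun x hx => ⟨(hg x hx).2, by simpa using (hg x hx).1⟩
        exact fun x hx => (this x hx).1
      exact hlx₀ (hfix l (h.symm ▸ hl) x₀ hx₀)
    · obtain ⟨y, hy⟩ : ∃ y, e y ≠ y := by
        by_contra hcon
        push Not at hcon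
        exact he1 (Perm.ext hcon)
      have hyΔ : y ∈ Δ := by
        by_contra h'
        exact hy (altOn_fix heA h')
      have h1 := congrArg (fun p : Perm (Fin n) => p y)
        (h e (Subgroup.subset_closure ⟨1, L.one_mem, by group⟩) l hl)
      simp only [Perm.mul_apply] at h1
      rw [altOn_fix heA (hout y hyΔ)] at h1
      exact hy (l.injective h1).symm

/-- The perfect normal subgroup is the alternating group on the block. -/
theorem L_eq : 5 ≤ Δ.card ∧ L = altOn Δ := by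
  classical
  have hinv := L_inv hC hc3 hfull hmax
  have hAH := altOn_le hfull
  obtain ⟨a, ha⟩ := Finset.card_pos.1 (show 0 < Δ.card by omega)
  obtain ⟨b, hb, hba⟩ := Finset.exists_mem_ne (show 1 < Δ.card by omega) a
  obtain ⟨c, hcm⟩ : ((Δ.erase a).erase b).Nonempty := by
    rw [← Finset.card_pos, Finset.card_erase_of_mem (Finset.mem_erase.2 ⟨hba, hb⟩),
      Finset.card_erase_of_mem ha]
    omega
  simp only [Finset.mem_erase] at hcm
  obtain ⟨hcb, hca, hc⟩ := hcm
  set t := tri a b c with ht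
  have htA : t ∈ altOn Δ := tri_mem_altOn ha hb hc hba.symm hcb.symm
  have h5 : 5 ≤ Δ.card := by
    by_contra h4
    have hfix := fixes_small hC hinv (by omega)
    have htL : t ∈ L := hC.cent t (hAH htA) fun l hl =>
      commute_of_disjoint (Δ := Δ) (fun x hx => altOn_fix htA hx) (hfix l hl)
    have := hfix t htL a ha
    rw [ht, tri_apply_left hba.symm hca.symm] at this
    exact hba this
  refine ⟨h5, ?_⟩
  let f : alternatingGroup {x // x ∈ Δ} →* Perm (Fin n) :=
    (Perm.ofSubtype (p := fun x => x ∈ Δ)).comp (alternatingGroup {x // x ∈ Δ}).subtype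
  have hfr : ∀ s, f s ∈ altOn Δ := fun s => ⟨s, s.2, rfl⟩
  haveI : IsSimpleGroup (alternatingGroup {x // x ∈ Δ}) :=
    alternatingGroup.isSimpleGroup (by rw [Nat.card_eq_fintype_card, Fintype.card_coe]; exact h5)
  haveI : (L.comap f).Normal := ⟨fun x hx g => by
    show f (g * x * g⁻¹) ∈ L
    rw [map_mul, map_mul, map_inv]
    exact hC.normal _ (hAH (hfr g)) _ hx⟩
  rcases (inferInstance : (L.comap f).Normal).eq_bot_or_eq_top with h | h
  · exfalso
    have hcentA : ∀ l ∈ L, t * l = l * t := by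
      intro l hl
      have hm : t * l * t⁻¹ * l⁻¹ ∈ L := L.mul_mem (hC.normal t (hAH htA) l hl) (L.inv_mem hl)
      have hA : t * l * t⁻¹ * l⁻¹ ∈ altOn Δ := by
        rw [show t * l * t⁻¹ * l⁻¹ = t * (l * t⁻¹ * l⁻¹) by group]
        exact mul_mem htA (altOn_conj (hinv l hl) (inv_mem htA))
      obtain ⟨s, hs, hse⟩ := hA
      have : (⟨s, hs⟩ : alternatingGroup {x // x ∈ Δ}) ∈ L.comap f := by
        show Perm.ofSubtype s ∈ L
        rw [hse]; exact hm
      rw [h, Subgroup.mem_bot] at this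
      rw [show s = 1 from congrArg Subtype.val this, map_one] at hse
      exact mul_inv_eq_iff_eq_mul.1 (mul_inv_eq_one.1 hse.symm)
    have htL := hC.cent t (hAH htA) hcentA
    obtain ⟨s, hs, hse⟩ := htA
    have : (⟨s, hs⟩ : alternatingGroup {x // x ∈ Δ}) ∈ L.comap f := by
      show Perm.ofSubtype s ∈ L
      rw [hse]; exact htL
    rw [h, Subgroup.mem_bot] at this
    rw [show s = 1 from congrArg Subtype.val this, map_one] at hse
    have := congrArg (fun p : Perm (Fin n) => p a) hse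
    simp only [Perm.one_apply, ht, tri_apply_left hba.symm hca.symm] at this
    exact hba this.symm
  · have hle : altOn Δ ≤ L := by
      rintro _ ⟨s, hs, rfl⟩
      exact (h ▸ Subgroup.mem_top (⟨s, hs⟩ : alternatingGroup {x // x ∈ Δ}) :
        (⟨s, hs⟩ : alternatingGroup {x // x ∈ Δ}) ∈ L.comap f)
    rcases hC.qs (altOn Δ) hle fun l hl x hx => altOn_conj (hinv l hl) hx with e | e
    · exact e.symm
    · exfalso
      obtain ⟨d, hdm⟩ : (((Δ.erase a).erase b).erase c).Nonempty := by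
        rw [← Finset.card_pos, Finset.card_erase_of_mem, Finset.card_erase_of_mem
          (Finset.mem_erase.2 ⟨hba, hb⟩), Finset.card_erase_of_mem ha]
        · omega
        · simp [hcb, hca, hc]
      simp only [Finset.mem_erase] at hdm
      obtain ⟨hdc, hdb, hda, hd⟩ := hdm
      have hu := tri_mem_altOn hb hc hd hcb.symm hdc.symm
      have h1 := congrArg (fun p : Perm (Fin n) => p a) (e t htA _ (hle hu))
      simp only [Perm.mul_apply, ht, tri_apply_other hba.symm hca.symm hda.symm,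
        tri_apply_left hba.symm hca.symm, tri_apply_left hcb.symm hdb.symm] at h1
      exact hcb h1.symm

end Cfsg.Agent.AltThree
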