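import Cfsg.Agent.Lib.AltThree.Main

/-!
# The degree of the alternating group
-/

set_option autoImplicit false
set_option linter.unusedSectionVars false
set_option linter.style.haveILetI false

namespace Cfsg.Agent.AltThree

open Equiv

/-- Some conjugate of the standard family of disjoint three-cycles lies in an overgroup of a Sylow 3-subgroup. -/
theorem exists_cover (n : ℕ) (H : Subgroup (Perm (Fin n)))
    (hS : ∃ P : Sylow 3 (Perm (Fin n)), (P : Subgroup (Perm (Fin n))) ≤ H) :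
    ∃ g : Perm (Fin n), ∀ i : ℕ, ∀ h : 3 * i + 2 < n,
      tri (g ⟨3 * i, by omega⟩) (g ⟨3 * i + 1, by omega⟩) (g ⟨3 * i + 2, h⟩) ∈ H := by
  classical
  haveI : Fact (Nat.Prime 3) := ⟨Nat.prime_three⟩
  obtain ⟨P, hP⟩ := hS
  set S : Set (Perm (Fin n)) := {x | ∃ i : ℕ, ∃ h : 3 * i + 2 < n,
    x = tri ⟨3 * i, by omega⟩ ⟨3 * i + 1, by omega⟩ ⟨3 * i + 2, h⟩} with hSdef
  have hcomm : ∀ x ∈ S, ∀ y ∈ S, x * y = y * x := by
    rintro _ ⟨i, hi, rfl⟩ _ ⟨j, hj, rfl⟩
    rcases eq_or_ne i j with rfl | hij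
    · rfl
    refine Perm.Disjoint.commute fun x => ?_
    by_cases hx : x.val / 3 = i
    · refine Or.inr (tri_apply_other ?_ ?_ ?_) <;> rw [ne_eq, Fin.ext_iff] <;> dsimp only <;> omega
    · refine Or.inl (tri_apply_other ?_ ?_ ?_) <;> rw [ne_eq, Fin.ext_iff] <;> dsimp only <;> omega
  have hWc : ∀ x ∈ Subgroup.closure S, ∀ y ∈ Subgroup.closure S, x * y = y * x := by
    refine fun x hx y hy => Subgroup.closure_induction₂ (p := fun x y _ _ => x * y = y * x)
      (fun x y hx hy => hcomm x hx y hy) (fun _ _ => by simp) (fun _ _ => by simp) ?_ ?_ ?_ ?_ hx hy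
    · exact fun x y w _ _ _ h1 h2 => (Commute.mul_left h1 h2).eq
    · exact fun y w x _ _ _ h1 h2 => (Commute.mul_right h1 h2).eq
    · exact fun x y _ _ h1 => (Commute.inv_left h1).eq
    · exact fun x y _ _ h1 => (Commute.inv_right h1).eq
  have hcube : ∀ x ∈ Subgroup.closure S, x ^ 3 = 1 := by
    intro x hx
    induction hx using Subgroup.closure_induction with
    | mem x hx =>
      obtain ⟨i, hi, rfl⟩ := hx
      have h3 : (tri (⟨3 * i, by omega⟩ : Fin n) ⟨3 * i + 1, by omega⟩ ⟨3 * i + 2, hi⟩).IsThreeCycle := by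
        rw [tri, swap_comm]
        exact Perm.isThreeCycle_swap_mul_swap_same (by simp [Fin.ext_iff]) (by simp [Fin.ext_iff]) (by simp [Fin.ext_iff])
      exact orderOf_dvd_iff_pow_eq_one.1 (dvd_of_eq h3.orderOf)
    | one => simp
    | mul x y hx' hy' hx hy =>
      rw [Commute.mul_pow (hWc x hx' y hy'), hx, hy, one_mul]
    | inv x _ hx => rw [inv_pow, hx, inv_one]
  have hW : IsPGroup 3 (Subgroup.closure S) := fun x => ⟨1, Subtype.ext (by
    rw [pow_one, Subgroup.coe_pow, hcube _ x.2, Subgroup.coe_one])⟩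
  obtain ⟨Q, hQ⟩ := hW.exists_le_sylow
  obtain ⟨g, hg⟩ := MulAction.exists_smul_eq (Perm (Fin n)) Q P
  refine ⟨g, fun i hi => hP ?_⟩
  rw [← hg, ← tri_conj]
  exact ⟨_, hQ (Subgroup.subset_closure ⟨i, hi, rfl⟩), rfl⟩

theorem main (n : ℕ) (hn : 5 ≤ n) (H : Subgroup (Perm (Fin n)))
    (hF : Cfsg.IsQuasisimple ↥(Cfsg.generalizedFittingSubgroup ↥H))
    (hS : ∃ P : Sylow 3 (Perm (Fin n)), (P : Subgroup (Perm (Fin n))) ≤ H) :
    ∃ m : ℕ, (m = n - 2 ∨ m = n - 1 ∨ m = n) ∧
      Nonempty (↥(Cfsg.generalizedFittingSubgroup ↥H) ≃* ↥(alternatingGroup (Fin m))) := by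
  classical
  obtain ⟨g, hg⟩ := exists_cover n H hS
  obtain ⟨Δ, hc3, hfull, hmax⟩ := exists_max (H := H) ⟨_, _, _,
    g.injective.ne (by simp [Fin.ext_iff]), g.injective.ne (by simp [Fin.ext_iff]),
    g.injective.ne (by simp [Fin.ext_iff]), hg 0 (by omega)⟩
  have hC := core_of_fstar H hF
  obtain ⟨h5, hL⟩ := L_eq hC hc3 hfull hmax
  -- every triple of the cover lies in the block
  have hin : ∀ i : ℕ, ∀ h : 3 * i + 2 < n, g ⟨3 * i, by omega⟩ ∈ Δ ∧ g ⟨3 * i + 1, by omega⟩ ∈ Δ ∧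
      g ⟨3 * i + 2, h⟩ ∈ Δ := by
    intro i hi
    have hm := hg i hi
    have n01 : g ⟨3 * i, by omega⟩ ≠ g ⟨3 * i + 1, by omega⟩ := g.injective.ne (by simp [Fin.ext_iff])
    have n12 : g ⟨3 * i + 1, by omega⟩ ≠ g ⟨3 * i + 2, hi⟩ := g.injective.ne (by simp [Fin.ext_iff])
    have n02 : g ⟨3 * i, by omega⟩ ≠ g ⟨3 * i + 2, hi⟩ := g.injective.ne (by simp [Fin.ext_iff])
    by_cases h0 : g ⟨3 * i, by omega⟩ ∈ Δ
    · exact ⟨h0, hmax _ _ _ h0 n01 n12 n02 hm⟩
    exfalso
    by_cases h1 : g ⟨3 * i + 1, by omega⟩ ∈ Δ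
    · rw [tri_rot n01 n12 n02] at hm
      exact h0 (hmax _ _ _ h1 n12 n02.symm n01.symm hm).2
    by_cases h2 : g ⟨3 * i + 2, hi⟩ ∈ Δ
    · rw [tri_rot n01 n12 n02, tri_rot n12 n02.symm n01.symm] at hm
      exact h0 (hmax _ _ _ h2 n02.symm n01 n12.symm hm).1
    have hcL := hC.cent _ hm fun l hl => by
      refine (commute_of_disjoint (Δ := Δ) (fun x hx => altOn_fix (hL ▸ hl) hx) fun x hx => ?_).symm
      exact tri_apply_other (fun e => h0 (e ▸ hx)) (fun e => h1 (e ▸ hx)) (fun e => h2 (e ▸ hx))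
    rw [hL] at hcL
    have h := altOn_fix hcL h0
    rw [tri_apply_left n01 n02] at h
    exact n01 h.symm
  refine ⟨Δ.card, ?_, ?_⟩
  · have hub : Δ.card ≤ n := by simpa using Δ.card_le_univ
    have hlb : 3 * (n / 3) ≤ Δ.card := by
      have hsub : ((Finset.univ : Finset (Fin n)).filter fun x => x.val < 3 * (n / 3)).map g.toEmbedding ⊆ Δ := by
        intro y hy
        obtain ⟨x, hx, rfl⟩ := Finset.mem_map.1 hy
        have hx' := (Finset.mem_filter.1 hx).2
        obtain ⟨h0, h1, h2⟩ := hin (x.val / 3) (by omega)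
        have : x.val % 3 = 0 ∨ x.val % 3 = 1 ∨ x.val % 3 = 2 := by omega
        rcases this with e | e | e
        · rw [Equiv.toEmbedding_apply, show x = (⟨3 * (x.val / 3), by omega⟩ : Fin n) from
            Fin.ext (show x.val = 3 * (x.val / 3) by omega)]
          exact h0
        · rw [Equiv.toEmbedding_apply, show x = (⟨3 * (x.val / 3) + 1, by omega⟩ : Fin n) from
            Fin.ext (show x.val = 3 * (x.val / 3) + 1 by omega)]
          exact h1
        · rw [Equiv.toEmbedding_apply, show x = (⟨3 * (x.val / 3) + 2, by omega⟩ : Fin n) from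
            Fin.ext (show x.val = 3 * (x.val / 3) + 2 by omega)]
          exact h2
      have h := Finset.card_le_card hsub
      rw [Finset.card_map, Fin.card_filter_val_lt] at h
      omega
    omega
  · refine ⟨(((Cfsg.generalizedFittingSubgroup ↥H).equivMapOfInjective H.subtype H.subtype_injective).trans
      (MulEquiv.subgroupCongr hL)).trans ?_⟩
    exact ((alternatingGroup {x // x ∈ Δ}).equivMapOfInjective _ Perm.ofSubtype_injective).symm.trans
      (Equiv.altCongrHom Δ.equivFin)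

end Cfsg.Agent.AltThree
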